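import Groth.Agent.Lib.Lead.TW.GlobalGen
import Groth.Agent.Lib.Lead.QC.AmpleBasis

/-! # Twisting sheaves: `O(1)` is ample when `S_+` is generated by finitely many degree one elements. -/

universe u
open CategoryTheory AlgebraicGeometry TopologicalSpace Opposite

namespace Groth.Agent.LD.TW

variable {R A : Type u} [CommRing R] [CommRing A] [Algebra R A] {𝒜 : ℕ → Submodule R A}
  [GradedAlgebra 𝒜]

open Twist

lemma powGlobal_val (f : A) (hf : f ∈ 𝒜 1) (n : ℕ) (x : (⊤ : Opens (ProjectiveSpectrum.top 𝒜))) :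
    (((powGlobal f hf n).1 x : twistAt 𝒜 n x.1) : Loc 𝒜 x.1) =
      algebraMap A (Loc 𝒜 x.1) (f ^ n) := by
  rw [powGlobal, castSec_val, globalOf_val]
  exact Localization.mk_one_eq_algebraMap _

/-- the morphism `O ⟶ O(n)` attached to `f ^ n`. -/
noncomputable def powHomSec (f : A) (hf : f ∈ 𝒜 1) (n : ℕ) :
    QC.unitMod (Proj 𝒜) ⟶ twist 𝒜 (n : ℤ) :=
  QC.homOfSection (twist 𝒜 (n : ℤ)) (show Γ(twist 𝒜 (n : ℤ), ⊤) from powGlobal f hf n)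

theorem basicOpen_le_genLocus_powHomSec (f : A) (hf : f ∈ 𝒜 1) (n : ℕ) :
    Proj.basicOpen 𝒜 f ≤ CohB1.genLocus (twist 𝒜 (n : ℤ)) (powHomSec f hf n) := by
  rw [QC.le_genLocus_iff_isBasisOver, powHomSec, QC.val_homOfSection]
  exact (isUnitSec_powGlobal f hf n (le_refl (ProjectiveSpectrum.basicOpen 𝒜 f))).isBasisOver

theorem genLocus_powHomSec_le {s : Set A} (hs1 : ∀ f ∈ s, f ∈ 𝒜 1)
    (hgen : (HomogeneousIdeal.irrelevant 𝒜).toIdeal = Ideal.span s)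
    (f : A) (hf : f ∈ 𝒜 1) (n : ℕ) (hn : 0 < n) :
    CohB1.genLocus (twist 𝒜 (n : ℤ)) (powHomSec f hf n) ≤ Proj.basicOpen 𝒜 f := by
  intro y hy
  obtain ⟨U, hyU, hU⟩ := (QC.mem_genLocus_iff _ _ y).mp hy
  obtain ⟨g, hgs, hyg⟩ := exists_mem_basicOpen_of_span hgen y
  rw [powHomSec, QC.val_homOfSection] at hU
  have hV : U ⊓ Proj.basicOpen 𝒜 g ≤ U := inf_le_left
  obtain ⟨a, ha⟩ := (hU (U ⊓ Proj.basicOpen 𝒜 g) hV).2
    (show Γ(twist 𝒜 (n : ℤ), U ⊓ Proj.basicOpen 𝒜 g) from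
      resSec (le_top : U ⊓ Proj.basicOpen 𝒜 g ≤ ⊤) (powGlobal g (hs1 g hgs) n))
  let y' : (U ⊓ Proj.basicOpen 𝒜 g : (Proj 𝒜).Opens) := ⟨y, hyU, hyg⟩
  have h1 := congrArg (fun t : Γ(twist 𝒜 (n : ℤ), U ⊓ Proj.basicOpen 𝒜 g) =>
    (((show sectN (𝒜 := 𝒜) (n : ℤ) (op (U ⊓ Proj.basicOpen 𝒜 g)) from t).1 y' :
      twistAt 𝒜 n y) : Loc 𝒜 y)) ha
  simp only [smul_sec_val, res_sec_val] at h1
  have h2 : ((resSec (le_top : U ⊓ Proj.basicOpen 𝒜 g ≤ ⊤) (powGlobal g (hs1 g hgs) n)).1 y').1 =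
      algebraMap A (Loc 𝒜 y) (g ^ n) := powGlobal_val g (hs1 g hgs) n ⟨y, trivial⟩
  have h3 : ((powGlobal f hf n).1 ⟨y'.1, trivial⟩).1 = algebraMap A (Loc 𝒜 y) (f ^ n) :=
    powGlobal_val f hf n ⟨y, trivial⟩
  have h1' : ((show O (𝒜 := 𝒜) (op (U ⊓ Proj.basicOpen 𝒜 g)) from a).1 y').val *
      algebraMap A (Loc 𝒜 y) (f ^ n) = algebraMap A (Loc 𝒜 y) (g ^ n) := by
    rw [← h2, ← h3]; exact h1
  have hgu : IsUnit (algebraMap A (Loc 𝒜 y) (g ^ n)) := by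
    rw [IsLocalization.AtPrime.isUnit_to_map_iff (Loc 𝒜 y) y.asHomogeneousIdeal.toIdeal]
    intro hmem
    exact hyg (y.isPrime.mem_of_pow_mem n hmem)
  rw [← h1'] at hgu
  have hfu := isUnit_of_mul_isUnit_right hgu
  rw [IsLocalization.AtPrime.isUnit_to_map_iff (Loc 𝒜 y) y.asHomogeneousIdeal.toIdeal] at hfu
  intro hfy
  exact hfu (Ideal.pow_mem_of_mem _ hfy n hn)

end Groth.Agent.LD.TW

namespace Groth.Agent.LD.TW

variable {R A : Type u} [CommRing R] [CommRing A] [Algebra R A] {𝒜 : ℕ → Submodule R A}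
  [GradedAlgebra 𝒜]

open Twist

theorem genLocus_powHomSec {s : Set A} (hs1 : ∀ f ∈ s, f ∈ 𝒜 1)
    (hgen : (HomogeneousIdeal.irrelevant 𝒜).toIdeal = Ideal.span s)
    (f : A) (hf : f ∈ 𝒜 1) (n : ℕ) (hn : 0 < n) :
    CohB1.genLocus (twist 𝒜 (n : ℤ)) (powHomSec f hf n) = Proj.basicOpen 𝒜 f :=
  le_antisymm (genLocus_powHomSec_le hs1 hgen f hf n hn) (basicOpen_le_genLocus_powHomSec f hf n)

/-- `Proj` is quasi-compact when the irrelevant ideal is generated by finitely many homogeneous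
elements of positive degree. -/
theorem compactSpace_proj (s : Finset A) (hs1 : ∀ f ∈ s, f ∈ 𝒜 1)
    (hs : (HomogeneousIdeal.irrelevant 𝒜).toIdeal = Ideal.span (s : Set A)) :
    CompactSpace (Proj 𝒜) := by
  rw [← isCompact_univ_iff]
  have h : (Set.univ : Set (Proj 𝒜)) = ⋃ f ∈ s, ((Proj.basicOpen 𝒜 f : (Proj 𝒜).Opens) : Set (Proj 𝒜)) := by
    ext x
    simp only [Set.mem_univ, Set.mem_iUnion, true_iff]
    obtain ⟨f, hfs, hxf⟩ := exists_mem_basicOpen_of_span hs x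
    exact ⟨f, hfs, hxf⟩
  rw [h]
  exact s.isCompact_biUnion fun f hf =>
    (Proj.isAffineOpen_basicOpen 𝒜 f (hs1 f hf) Nat.one_pos).isCompact

/-- `O(1)` is ample. -/
theorem isAmple_twist_one (s : Finset A) (hs1 : ∀ f ∈ s, f ∈ 𝒜 1)
    (hs : (HomogeneousIdeal.irrelevant 𝒜).toIdeal = Ideal.span (s : Set A)) :
    CohB1.IsAmple (twist 𝒜 1) := by
  have hinv := isInvertible_twist_of_span hs1 hs 1
  refine ⟨hinv, compactSpace_proj s hs1 hs, fun x => ?_⟩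
  obtain ⟨f, hfs, hxf⟩ := exists_mem_basicOpen_of_span hs x
  let φ : twist 𝒜 ((1 : ℕ) : ℤ) ≅ twist 𝒜 1 := twistCongr (by simp)
  let σ : QC.unitMod (Proj 𝒜) ⟶ twist 𝒜 1 := powHomSec f (hs1 f hfs) 1 ≫ φ.hom
  have hσ : CohB1.genLocus (twist 𝒜 1) σ = Proj.basicOpen 𝒜 f := by
    rw [QC.genLocus_comp_iso]
    exact genLocus_powHomSec hs1 hs f (hs1 f hfs) 1 Nat.one_pos
  have hσ1 : CohB1.genLocus _ (SecTwist.powHom σ (0 + 1)) = Proj.basicOpen 𝒜 f := by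
    change CohB1.genLocus _ (SecTwist.tmulHom (𝟙 _) σ) = _
    rw [QC.genLocus_tmulHom (QC.isInvertible_unit _) hinv, QC.genLocus_id, top_inf_eq, hσ]
  refine ⟨0, SecTwist.powHom σ (0 + 1), ?_, ?_⟩
  · rw [hσ1]; exact hxf
  · rw [hσ1]; exact Proj.isAffineOpen_basicOpen 𝒜 f (hs1 f hfs) Nat.one_pos

end Groth.Agent.LD.TW
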