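import Groth.Agent.Lib.Lead.TW.MulTensor

/-! # Twisting sheaves when the irrelevant ideal is generated in degree one. -/

universe u
open CategoryTheory AlgebraicGeometry TopologicalSpace Opposite

namespace Groth.Agent.LD.TW

variable {R A : Type u} [CommRing R] [CommRing A] [Algebra R A] {𝒜 : ℕ → Submodule R A}
  [GradedAlgebra 𝒜]

open Twist

/-- pointwise invertible sections of `O(n)` on `D₊(f)`, `f` of degree one. -/
theorem exists_isUnitSec_one (f : A) (hf : f ∈ 𝒜 1) (n : ℤ)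
    {V : Opens (ProjectiveSpectrum.top 𝒜)} (hV : V ≤ ProjectiveSpectrum.basicOpen 𝒜 f) :
    ∃ u : sectN (𝒜 := 𝒜) n (op V), IsUnitSec u := by
  obtain ⟨u, hu⟩ := exists_isUnitSec f hf n hV
  exact ⟨_, hu.cast (by simp)⟩

/-- if the irrelevant ideal is generated by a set `s` of degree one elements, every point has a
neighbourhood `D₊(f)`, `f ∈ s`, with pointwise invertible sections of `O(n)`. -/
theorem exists_isUnitSec_of_span {s : Set A} (hs1 : ∀ f ∈ s, f ∈ 𝒜 1)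
    (hgen : (HomogeneousIdeal.irrelevant 𝒜).toIdeal = Ideal.span s) (n : ℤ)
    (x : Proj 𝒜) : ∃ f ∈ s, x ∈ Proj.basicOpen 𝒜 f ∧
      ∃ u : sectN (𝒜 := 𝒜) n (op (Proj.basicOpen 𝒜 f)), IsUnitSec u := by
  obtain ⟨f, hfs, hxf⟩ := exists_mem_basicOpen_of_span hgen x
  exact ⟨f, hfs, hxf, exists_isUnitSec_one f (hs1 f hfs) n le_rfl⟩

theorem isInvertible_twist_of_span {s : Set A} (hs1 : ∀ f ∈ s, f ∈ 𝒜 1)
    (hgen : (HomogeneousIdeal.irrelevant 𝒜).toIdeal = Ideal.span s) (n : ℤ) :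
    PicF.IsInvertible (twist 𝒜 n) := by
  rw [QC.isInvertible_iff_exists_isBasisOver]
  intro x
  obtain ⟨f, -, hxf, u, hu⟩ := exists_isUnitSec_of_span hs1 hgen n x
  exact ⟨Proj.basicOpen 𝒜 f, _, hxf, hu.isBasisOver⟩

theorem isIso_mulTensor_of_span {s : Set A} (hs1 : ∀ f ∈ s, f ∈ 𝒜 1)
    (hgen : (HomogeneousIdeal.irrelevant 𝒜).toIdeal = Ideal.span s) (m n : ℤ) :
    IsIso (mulTensor 𝒜 m n) := by
  apply isIso_mulTensor
  intro x
  obtain ⟨f, hfs, hxf⟩ := exists_mem_basicOpen_of_span hgen x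
  obtain ⟨u, hu⟩ := exists_isUnitSec_one f (hs1 f hfs) m (le_refl (Proj.basicOpen 𝒜 f))
  obtain ⟨u', hu'⟩ := exists_isUnitSec_one f (hs1 f hfs) n (le_refl (Proj.basicOpen 𝒜 f))
  exact ⟨Proj.basicOpen 𝒜 f, u, u', hxf, hu, hu'⟩

/-- `O(m) ⊗ O(n) ≅ O(m + n)`. -/
noncomputable def mulTensorIso {s : Set A} (hs1 : ∀ f ∈ s, f ∈ 𝒜 1)
    (hgen : (HomogeneousIdeal.irrelevant 𝒜).toIdeal = Ideal.span s) (m n : ℤ) :
    CohB1.tensorMod (twist 𝒜 m) (twist 𝒜 n) ≅ twist 𝒜 (m + n) :=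
  haveI := isIso_mulTensor_of_span hs1 hgen m n
  asIso (mulTensor 𝒜 m n)

/-- `O(n) ≅ O(1)^{⊗ n}`. -/
theorem nonempty_twist_iso_tensorPow {s : Set A} (hs1 : ∀ f ∈ s, f ∈ 𝒜 1)
    (hgen : (HomogeneousIdeal.irrelevant 𝒜).toIdeal = Ideal.span s) (n : ℕ) :
    Nonempty (twist 𝒜 (n : ℤ) ≅ CohB1.tensorPow (twist 𝒜 1) n) := by
  induction n with
  | zero => exact ⟨twistCongr (by simp) ≪≫ twistZeroIso 𝒜⟩
  | succ n ih =>
    obtain ⟨e⟩ := ih
    exact ⟨twistCongr (by push_cast; ring) ≪≫ (mulTensorIso hs1 hgen (n : ℤ) 1).symm ≪≫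
      QC.tensorIso' e (Iso.refl _)⟩

end Groth.Agent.LD.TW
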