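import Groth.Agent.Lib.Lead.TW.Deg1
import Groth.Agent.Lib.Lead.QC.Gen

/-! # Morphisms between twisting sheaves are multiplications by global sections. -/

universe u
open CategoryTheory AlgebraicGeometry TopologicalSpace Opposite

namespace Groth.Agent.LD.TW

variable {R A : Type u} [CommRing R] [CommRing A] [Algebra R A] {𝒜 : ℕ → Submodule R A}
  [GradedAlgebra 𝒜]

open Twist

/-- the value of a section of `O(k)` at a point, in the localisation. -/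
noncomputable abbrev secVal {k : ℤ} {W : (Proj 𝒜).Opens} (s : Γ(twist 𝒜 k, W)) (x : W) : Loc 𝒜 x.1 :=
  ((show sectN (𝒜 := 𝒜) k (op W) from s).1 x).1

/-- a morphism `O(a) ⟶ O(b)` is determined, over an open with a pointwise invertible section `w`,
by the image of `w`. -/
theorem hom_val_of_unit {a b : ℤ} (φ : twist 𝒜 a ⟶ twist 𝒜 b) {V W : (Proj 𝒜).Opens} (hW : W ≤ V)
    {w : sectN (𝒜 := 𝒜) a (op V)} {v : sectN (𝒜 := 𝒜) (-a) (op V)}
    (hv : ∀ x : V, (w.1 x).1 * (v.1 x).1 = 1)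
    (t : Γ(twist 𝒜 a, W)) (x : W) :
    secVal (φ.app W t) x =
      secVal t x * (v.1 ⟨x.1, hW x.2⟩).1 *
        secVal (φ.app V (show Γ(twist 𝒜 a, V) from w)) ⟨x.1, hW x.2⟩ := by
  have hu : IsUnitSec w := ⟨v, hv⟩
  obtain ⟨c, hc⟩ := (hu.isBasisOver W hW).2 t
  have hc' : c • (twist 𝒜 a).presheaf.map (homOfLE hW).op (show Γ(twist 𝒜 a, V) from w) = t := hc
  have h1 : φ.app W t = c • (twist 𝒜 b).presheaf.map (homOfLE hW).op
      (φ.app V (show Γ(twist 𝒜 a, V) from w)) := by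
    rw [← hc', Scheme.Modules.Hom.app_smul, QC.app_res]
  have h2 : secVal t x = ((show O (𝒜 := 𝒜) (op W) from c).1 x).val * (w.1 ⟨x.1, hW x.2⟩).1 := by
    rw [← hc']
    exact (smul_sec_val c _ x).trans (by rw [res_sec_val])
  rw [h1]
  refine (smul_sec_val c _ x).trans ?_
  rw [res_sec_val, h2]
  have h3 := hv ⟨x.1, hW x.2⟩
  have key : ∀ (cx px wx vx : Loc 𝒜 x.1), wx * vx = 1 → cx * px = cx * wx * vx * px := by
    intro cx px wx vx h
    linear_combination (-(cx * px)) * h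
  exact key _ _ _ _ h3

/-- local trivialising data for `O(a)` near a point. -/
structure UnitDatum (𝒜 : ℕ → Submodule R A) [GradedAlgebra 𝒜] (a : ℤ) (x : Proj 𝒜) where
  V : (Proj 𝒜).Opens
  hx : x ∈ V
  w : sectN (𝒜 := 𝒜) a (op V)
  v : sectN (𝒜 := 𝒜) (-a) (op V)
  hv : ∀ y : V, (w.1 y).1 * (v.1 y).1 = 1

theorem nonempty_unitDatum {s : Set A} (hs1 : ∀ f ∈ s, f ∈ 𝒜 1)
    (hgen : (HomogeneousIdeal.irrelevant 𝒜).toIdeal = Ideal.span s) (a : ℤ) (x : Proj 𝒜) :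
    Nonempty (UnitDatum 𝒜 a x) := by
  obtain ⟨f, -, hxf, u, v, hv⟩ := exists_isUnitSec_of_span hs1 hgen a x
  exact ⟨⟨Proj.basicOpen 𝒜 f, hxf, u, v, hv⟩⟩

/-- the local multiplier of `φ` attached to a trivialising datum. -/
noncomputable def UnitDatum.σ {a b : ℤ} {x : Proj 𝒜} (D : UnitDatum 𝒜 a x)
    (φ : twist 𝒜 a ⟶ twist 𝒜 b) : sectN (𝒜 := 𝒜) (-a + b) (op D.V) :=
  mulSec le_rfl D.v (show sectN (𝒜 := 𝒜) b (op D.V) from
    φ.app D.V (show Γ(twist 𝒜 a, D.V) from D.w))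

lemma UnitDatum.σ_val {a b : ℤ} {x : Proj 𝒜} (D : UnitDatum 𝒜 a x)
    (φ : twist 𝒜 a ⟶ twist 𝒜 b) (y : D.V) :
    ((D.σ φ).1 y).1 = (D.v.1 y).1 * secVal (φ.app D.V (show Γ(twist 𝒜 a, D.V) from D.w)) y := rfl

/-- the value of `φ` at a point in terms of the local multiplier. -/
theorem UnitDatum.hom_val {a b : ℤ} {x : Proj 𝒜} (D : UnitDatum 𝒜 a x)
    (φ : twist 𝒜 a ⟶ twist 𝒜 b) {W : (Proj 𝒜).Opens} (t : Γ(twist 𝒜 a, W)) (y : W)
    (hy : y.1 ∈ D.V) :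
    secVal (φ.app W t) y = ((D.σ φ).1 ⟨y.1, hy⟩).1 * secVal t y := by
  have hW' : W ⊓ D.V ≤ D.V := inf_le_right
  have hW : W ⊓ D.V ≤ W := inf_le_left
  let y' : (W ⊓ D.V : (Proj 𝒜).Opens) := ⟨y.1, y.2, hy⟩
  have h1 := hom_val_of_unit φ hW' D.hv ((twist 𝒜 a).presheaf.map (homOfLE hW).op t) y'
  rw [QC.app_res] at h1
  have h2 : secVal ((twist 𝒜 b).presheaf.map (homOfLE hW).op (φ.app W t)) y' =
      secVal (φ.app W t) y := res_sec_val hW _ y'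
  have h3 : secVal ((twist 𝒜 a).presheaf.map (homOfLE hW).op t) y' = secVal t y :=
    res_sec_val hW _ y'
  rw [h2, h3] at h1
  refine h1.trans ?_
  rw [D.σ_val]
  have key : ∀ (tv vv pv : Loc 𝒜 y.1), tv * vv * pv = vv * pv * tv := by
    intro tv vv pv
    ring
  exact key _ _ _

/-- the local multipliers do not depend on the trivialising datum. -/
theorem UnitDatum.σ_indep {a b : ℤ} {x x' : Proj 𝒜} (D : UnitDatum 𝒜 a x) (D' : UnitDatum 𝒜 a x')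
    (φ : twist 𝒜 a ⟶ twist 𝒜 b) (y : Proj 𝒜) (hy : y ∈ D.V) (hy' : y ∈ D'.V) :
    ((D.σ φ).1 ⟨y, hy⟩).1 = ((D'.σ φ).1 ⟨y, hy'⟩).1 := by
  have h1 := D.hom_val φ (show Γ(twist 𝒜 a, D'.V) from D'.w) ⟨y, hy'⟩ hy
  refine Eq.trans ?_ (D'.σ_val φ ⟨y, hy'⟩).symm
  refine Eq.trans ?_ (congrArg (fun z => (D'.v.1 ⟨y, hy'⟩).1 * z) h1.symm)
  have h2 := D'.hv ⟨y, hy'⟩
  have key : ∀ (p wx vx : Loc 𝒜 y), wx * vx = 1 → p = vx * (p * wx) := by
    intro p wx vx h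
    linear_combination (-p) * h
  exact key _ _ _ h2

section Global

variable {s : Set A} (hs1 : ∀ f ∈ s, f ∈ 𝒜 1)
  (hgen : (HomogeneousIdeal.irrelevant 𝒜).toIdeal = Ideal.span s)

/-- the global multiplier of a morphism `O(a) ⟶ O(b)`, as a function. -/
noncomputable def multFun {a b : ℤ} (φ : twist 𝒜 a ⟶ twist 𝒜 b) :
    ∀ x : (⊤ : Opens (ProjectiveSpectrum.top 𝒜)), twistAt 𝒜 (-a + b) x.1 :=
  fun x => ((Classical.choice (nonempty_unitDatum hs1 hgen a x.1)).σ φ).1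
    ⟨x.1, (Classical.choice (nonempty_unitDatum hs1 hgen a x.1)).hx⟩

lemma multFun_val {a b : ℤ} (φ : twist 𝒜 a ⟶ twist 𝒜 b)
    (x : (⊤ : Opens (ProjectiveSpectrum.top 𝒜))) {x' : Proj 𝒜} (D : UnitDatum 𝒜 a x')
    (hx : x.1 ∈ D.V) :
    (multFun hs1 hgen φ x).1 = ((D.σ φ).1 ⟨x.1, hx⟩).1 :=
  UnitDatum.σ_indep _ D φ x.1 _ hx

lemma multFun_pred {a b : ℤ} (φ : twist 𝒜 a ⟶ twist 𝒜 b) :
    (isLocFracN 𝒜 (-a + b)).pred (multFun hs1 hgen φ) := by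
  intro x
  let D := Classical.choice (nonempty_unitDatum hs1 hgen a x.1)
  obtain ⟨V', hxV', i', i, j, p, q, hq, hdeg, hval⟩ := (D.σ φ).2 ⟨x.1, D.hx⟩
  refine ⟨V', hxV', homOfLE le_top, i, j, p, q, hq, hdeg, fun y => ?_⟩
  rw [← hval y]
  exact multFun_val hs1 hgen φ _ D (leOfHom i' y.2)

/-- the global multiplier of a morphism `O(a) ⟶ O(b)`: a global section of `O(b - a)`. -/
noncomputable def multSec {a b : ℤ} (φ : twist 𝒜 a ⟶ twist 𝒜 b) :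
    sectN (𝒜 := 𝒜) (-a + b) (op ⊤) :=
  ⟨multFun hs1 hgen φ, multFun_pred hs1 hgen φ⟩

/-- **every morphism `O(a) ⟶ O(b)` is the multiplication by a global section of `O(b - a)`.** -/
theorem hom_val {a b : ℤ} (φ : twist 𝒜 a ⟶ twist 𝒜 b) {W : (Proj 𝒜).Opens}
    (t : Γ(twist 𝒜 a, W)) (y : W) :
    secVal (φ.app W t) y = ((multSec hs1 hgen φ).1 ⟨y.1, trivial⟩).1 * secVal t y := by
  let D := Classical.choice (nonempty_unitDatum hs1 hgen a y.1)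
  rw [D.hom_val φ t y D.hx]
  rfl

end Global

/-- morphisms `O(a) ⟶ O(b)` with the same pointwise values are equal. -/
theorem hom_ext_of_val {a b : ℤ} (φ φ' : twist 𝒜 a ⟶ twist 𝒜 b)
    (h : ∀ (W : (Proj 𝒜).Opens) (t : Γ(twist 𝒜 a, W)) (y : W),
      secVal (φ.app W t) y = secVal (φ'.app W t) y) : φ = φ' := by
  apply Scheme.Modules.hom_ext
  intro W
  ext t
  exact sectN_ext (fun y => h W t y)

/-- the multiplication by a global section of `O(k)` as a morphism `O(a) ⟶ O(b)`, `b = k + a`. -/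
theorem exists_hom_of_sec {k a b : ℤ} (h : b = k + a) (u : sectN (𝒜 := 𝒜) k (op ⊤)) :
    ∃ φ : twist 𝒜 a ⟶ twist 𝒜 b, ∀ (W : (Proj 𝒜).Opens) (t : Γ(twist 𝒜 a, W)) (y : W),
      secVal (φ.app W t) y = (u.1 ⟨y.1, trivial⟩).1 * secVal t y := by
  subst h
  exact ⟨mulHom u a, fun W t y => rfl⟩

end Groth.Agent.LD.TW
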