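import Groth.Agent.Lib.Lead.TW.UnitSec

/-! # Twisting sheaves: pointwise invertible sections are bases. -/

universe u
open CategoryTheory AlgebraicGeometry TopologicalSpace Opposite

namespace Groth.Agent.LD.TW

variable {R A : Type u} [CommRing R] [CommRing A] [Algebra R A] {𝒜 : ℕ → Submodule R A}
  [GradedAlgebra 𝒜]

open Twist

lemma smul_sec_val {k : ℤ} {W : (Proj 𝒜).Opens} (a : Γ(Proj 𝒜, W)) (s : Γ(twist 𝒜 k, W)) (x : W) :
    (((show sectN (𝒜 := 𝒜) k (op W) from a • s).1 x : twistAt 𝒜 k x.1) : Loc 𝒜 x.1) =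
      ((show O (𝒜 := 𝒜) (op W) from a).1 x).val *
        ((show sectN (𝒜 := 𝒜) k (op W) from s).1 x).1 :=
  coe_smul_val k x.1 _ _

lemma res_sec_val {k : ℤ} {V W : (Proj 𝒜).Opens} (h : W ≤ V) (s : Γ(twist 𝒜 k, V)) (x : W) :
    (((show sectN (𝒜 := 𝒜) k (op W) from (twist 𝒜 k).presheaf.map (homOfLE h).op s).1 x :
      twistAt 𝒜 k x.1) : Loc 𝒜 x.1) =
      ((show sectN (𝒜 := 𝒜) k (op V) from s).1 ⟨x.1, h x.2⟩).1 := rfl

/-- a pointwise invertible section of `O(k)` over `V` is a basis of `O(k)` over `V`. -/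
theorem IsUnitSec.isBasisOver {k : ℤ} {V : (Proj 𝒜).Opens} {u : sectN (𝒜 := 𝒜) k (op V)}
    (hu : IsUnitSec u) : QC.IsBasisOver (twist 𝒜 k) V (show Γ(twist 𝒜 k, V) from u) := by
  intro W hW
  obtain ⟨v, hv⟩ := hu
  constructor
  · intro a b hab
    have hab' : ∀ x : W, ((show O (𝒜 := 𝒜) (op W) from a).1 x).val =
        ((show O (𝒜 := 𝒜) (op W) from b).1 x).val := by
      intro x
      have h1 := congrArg (fun s : Γ(twist 𝒜 k, W) =>
        (((show sectN (𝒜 := 𝒜) k (op W) from s).1 x : twistAt 𝒜 k x.1) : Loc 𝒜 x.1)) hab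
      simp only [smul_sec_val, res_sec_val] at h1
      have h2 := hv ⟨x.1, hW x.2⟩
      calc ((show O (𝒜 := 𝒜) (op W) from a).1 x).val
          = ((show O (𝒜 := 𝒜) (op W) from a).1 x).val * (u.1 ⟨x.1, hW x.2⟩).1 *
              (v.1 ⟨x.1, hW x.2⟩).1 := by rw [mul_assoc, h2, mul_one]
        _ = ((show O (𝒜 := 𝒜) (op W) from b).1 x).val * (u.1 ⟨x.1, hW x.2⟩).1 *
              (v.1 ⟨x.1, hW x.2⟩).1 := by rw [h1]
        _ = _ := by rw [mul_assoc, h2, mul_one]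
    apply Subtype.ext
    funext x
    exact HomogeneousLocalization.val_injective _ (hab' x)
  · intro s
    let s' : sectN (𝒜 := 𝒜) k (op W) := s
    let t : sectN (𝒜 := 𝒜) 0 (op W) := castSec (by ring) (mulSec hW v s')
    obtain ⟨a, ha⟩ := ofO_surjective (op W) t
    refine ⟨a, ?_⟩
    change (show sectN (𝒜 := 𝒜) k (op W) from _) = s'
    apply sectN_ext
    intro x
    have h1 := smul_sec_val (k := k) (W := W) a ((twist 𝒜 k).presheaf.map (homOfLE hW).op u) x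
    refine h1.trans ?_
    rw [res_sec_val]
    have h2 : ((show O (𝒜 := 𝒜) (op W) from a).1 x).val = (v.1 ⟨x.1, hW x.2⟩).1 * (s'.1 x).1 := by
      have h3 := congrArg (fun w : sectN (𝒜 := 𝒜) 0 (op W) => ((w.1 x).1 : Loc 𝒜 x.1)) ha
      simp only [ofO_val] at h3
      refine h3.trans ?_
      change ((castSec _ (mulSec hW v s')).1 x).1 = _
      rw [castSec_val, mulSec_apply]
    rw [h2]
    have h4 := hv ⟨x.1, hW x.2⟩
    calc (v.1 ⟨x.1, hW x.2⟩).1 * (s'.1 x).1 * (u.1 ⟨x.1, hW x.2⟩).1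
        = ((u.1 ⟨x.1, hW x.2⟩).1 * (v.1 ⟨x.1, hW x.2⟩).1) * (s'.1 x).1 := by ring
      _ = (s'.1 x).1 := by rw [h4, one_mul]

end Groth.Agent.LD.TW
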