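import Groth.Agent.Lib.Lead.TW.BasicOpen
import Groth.Agent.Lib.Lead.QC.FreeHom

/-! # Twisting sheaves: `O(0)` is the structure sheaf. -/

universe u
open CategoryTheory AlgebraicGeometry TopologicalSpace Opposite

namespace Groth.Agent.LD.TW

variable {R A : Type u} [CommRing R] [CommRing A] [Algebra R A] {𝒜 : ℕ → Submodule R A}
  [GradedAlgebra 𝒜]

open Twist HomogeneousLocalization

lemma val_mem_twistAt_zero {x : ProjectiveSpectrum 𝒜} (c : A0 𝒜 x) : c.val ∈ twistAt 𝒜 0 x := by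
  rw [c.eq_num_div_den]
  exact mk_mem_twistAt (⟨c.num, c.num_mem_deg⟩ : 𝒜 c.deg) (⟨c.den, c.den_mem_deg⟩ : 𝒜 c.deg)
    c.den_mem (by simp)

lemma exists_val_eq_of_mem_twistAt_zero {x : ProjectiveSpectrum 𝒜} {q : Loc 𝒜 x}
    (hq : q ∈ twistAt 𝒜 0 x) : ∃ c : A0 𝒜 x, c.val = q := by
  induction hq using Submodule.span_induction with
  | mem q hq =>
    obtain ⟨i, j, a, s, hs, hij, rfl⟩ := hq
    have : i = j := by omega
    subst this
    exact ⟨HomogeneousLocalization.mk ⟨i, a, s, hs⟩, HomogeneousLocalization.val_mk _⟩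
  | zero => exact ⟨0, HomogeneousLocalization.val_zero⟩
  | add p q _ _ hp hq =>
    obtain ⟨c, rfl⟩ := hp
    obtain ⟨c', rfl⟩ := hq
    exact ⟨c + c', HomogeneousLocalization.val_add _ _⟩
  | smul c q _ hq =>
    obtain ⟨c', rfl⟩ := hq
    refine ⟨c * c', ?_⟩
    rw [HomogeneousLocalization.val_mul, Algebra.smul_def, HomogeneousLocalization.algebraMap_apply]

end Groth.Agent.LD.TW

namespace Groth.Agent.LD.TW

variable {R A : Type u} [CommRing R] [CommRing A] [Algebra R A] {𝒜 : ℕ → Submodule R A}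
  [GradedAlgebra 𝒜]

open Twist HomogeneousLocalization ProjectiveSpectrum.StructureSheaf

/-- a section of the structure sheaf as a section of `O(0)`. -/
def ofO (U : (Opens (ProjectiveSpectrum.top 𝒜))ᵒᵖ) (c : O (𝒜 := 𝒜) U) : sectN (𝒜 := 𝒜) 0 U :=
  ⟨fun x => ⟨(c.1 x).val, val_mem_twistAt_zero _⟩, fun x => by
    rcases c.2 x with ⟨V, m, i, j, r, t, nin, w⟩
    refine ⟨V, m, i, j, j, r, t, nin, Or.inl (by simp), fun y => ?_⟩
    change (c.1 (i y)).val = _
    have hw : c.1 (i y) = HomogeneousLocalization.mk ⟨j, r, t, nin y⟩ := w y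
    rw [hw, HomogeneousLocalization.val_mk]⟩

lemma ofO_val (U : (Opens (ProjectiveSpectrum.top 𝒜))ᵒᵖ) (c : O (𝒜 := 𝒜) U) (x : U.unop) :
    (((ofO U c).1 x : twistAt 𝒜 0 x.1) : Loc 𝒜 x.1) = (c.1 x).val := rfl

lemma ofO_injective (U : (Opens (ProjectiveSpectrum.top 𝒜))ᵒᵖ) :
    Function.Injective (ofO (𝒜 := 𝒜) U) := by
  intro c c' h
  apply Subtype.ext
  funext x
  apply HomogeneousLocalization.val_injective
  have := congrArg (fun w : sectN (𝒜 := 𝒜) 0 U => ((w.1 x).1 : Loc 𝒜 x.1)) h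
  exact this

lemma ofO_surjective (U : (Opens (ProjectiveSpectrum.top 𝒜))ᵒᵖ) :
    Function.Surjective (ofO (𝒜 := 𝒜) U) := by
  intro s
  have hc : ∀ x : U.unop, ∃ c : A0 𝒜 x.1, c.val = (s.1 x).1 :=
    fun x => exists_val_eq_of_mem_twistAt_zero (s.1 x).2
  choose c hcv using hc
  refine ⟨⟨c, fun x => ?_⟩, ?_⟩
  · rcases s.2 x with ⟨V, m, i, i', j', ⟨a, a_mem⟩, ⟨t, t_mem⟩, nin, ca, w⟩
    replace ca : (i' : ℤ) = j' + 0 ∨ a = 0 := ca
    rcases ca with h | h
    · have hij : i' = j' := by omega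
      subst hij
      refine ⟨V, m, i, i', ⟨a, a_mem⟩, ⟨t, t_mem⟩, nin, fun y => ?_⟩
      apply HomogeneousLocalization.val_injective
      rw [hcv, HomogeneousLocalization.val_mk]
      exact w y
    · subst h
      refine ⟨V, m, i, j', ⟨0, zero_mem _⟩, ⟨t, t_mem⟩, nin, fun y => ?_⟩
      apply HomogeneousLocalization.val_injective
      rw [hcv, HomogeneousLocalization.val_mk]
      exact w y
  · apply sectN_ext
    intro x
    exact hcv x

lemma ofO_add (U : (Opens (ProjectiveSpectrum.top 𝒜))ᵒᵖ) (c c' : O (𝒜 := 𝒜) U) :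
    ofO U (c + c') = ofO U c + ofO U c' := by
  apply sectN_ext
  intro x
  exact HomogeneousLocalization.val_add _ _

lemma ofO_zero (U : (Opens (ProjectiveSpectrum.top 𝒜))ᵒᵖ) : ofO (𝒜 := 𝒜) U 0 = 0 := by
  apply sectN_ext
  intro x
  exact HomogeneousLocalization.val_zero

lemma ofO_mul (U : (Opens (ProjectiveSpectrum.top 𝒜))ᵒᵖ) (r c : O (𝒜 := 𝒜) U) :
    ofO U (r * c) = r • ofO U c := by
  apply sectN_ext
  intro x
  change ((r * c).1 x).val = ((r.1 x • (ofO U c).1 x : twistAt 𝒜 0 x.1) : Loc 𝒜 x.1)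
  rw [coe_smul_val, ofO_val]
  exact HomogeneousLocalization.val_mul _ _

end Groth.Agent.LD.TW

namespace Groth.Agent.LD.TW

variable {R A : Type u} [CommRing R] [CommRing A] [Algebra R A] {𝒜 : ℕ → Submodule R A}
  [GradedAlgebra 𝒜]

open Twist

variable (𝒜) in
/-- the structure sheaf maps to `O(0)`, on presheaves. -/
noncomputable def unitToTwistPre :
    (PresheafOfModules.unit ((ProjectiveSpectrum.Proj.structureSheaf 𝒜).1 ⋙
      forget₂ CommRingCat RingCat)).presheaf ⟶ twistPre 𝒜 0 where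
  app U := AddCommGrpCat.ofHom
    { toFun := fun c => ofO U c
      map_zero' := ofO_zero U
      map_add' := ofO_add U }
  naturality U V i := by
    ext s
    rfl

variable (𝒜) in
/-- the morphism from the structure sheaf to `O(0)`. -/
noncomputable def unitToTwist : QC.unitMod (Proj 𝒜) ⟶ twist 𝒜 0 :=
  ⟨PresheafOfModules.homMk (M₂ := twistPMod 𝒜 0) (unitToTwistPre 𝒜) (fun U r s => ofO_mul U r s)⟩

lemma unitToTwist_app_apply (U : (Proj 𝒜).Opens) (c : Γ(QC.unitMod (Proj 𝒜), U)) :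
    (unitToTwist 𝒜).app U c = ofO (op U) c := rfl

instance : IsIso (unitToTwist 𝒜) := by
  rw [Scheme.Modules.Hom.isIso_iff_isIso_app]
  intro U
  exact (ConcreteCategory.isIso_iff_bijective _).mpr ⟨ofO_injective (op U), ofO_surjective (op U)⟩

variable (𝒜) in
/-- `O(0) ≅ O_X`. -/
noncomputable def twistZeroIso : twist 𝒜 0 ≅ QC.unitMod (Proj 𝒜) := (asIso (unitToTwist 𝒜)).symm

end Groth.Agent.LD.TW
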