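import Groth.Agent.Lib.Lead.TW.Zero

/-! # Twisting sheaves: local trivializations. -/

universe u
open CategoryTheory AlgebraicGeometry TopologicalSpace Opposite

namespace Groth.Agent.LD.TW

variable {R A : Type u} [CommRing R] [CommRing A] [Algebra R A] {𝒜 : ℕ → Submodule R A}
  [GradedAlgebra 𝒜]

open Twist

/-- multiplication by `a` restricts to an isomorphism `O(n)|_U ≅ O(i + n)|_U` for `U ⊆ D₊(a)`. -/
noncomputable def mulIsoOfLE {i : ℕ} (a : 𝒜 i) (n : ℤ) (U : (Proj 𝒜).Opens)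
    (hU : U ≤ Proj.basicOpen 𝒜 (a : A)) :
    (twist 𝒜 n).restrict U.ι ≅ (twist 𝒜 ((i : ℤ) + n)).restrict U.ι :=
  haveI := isIso_restrict_of_bijective (mulHom (globalOf 𝒜 a) n) U
    (fun V hV => mulSec_globalOf_bijective a n (hV.trans hU))
  asIso ((Scheme.Modules.restrictFunctor U.ι).map (mulHom (globalOf 𝒜 a) n))

/-- `O(n)|_U ≅ O(m)|_U` when `m = i + n` and `U ⊆ D₊(a)`, `a` of degree `i`. -/
theorem nonempty_iso_of_le {i : ℕ} (a : A) (ha : a ∈ 𝒜 i) (n m : ℤ) (h : m = i + n)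
    (U : (Proj 𝒜).Opens) (hU : U ≤ Proj.basicOpen 𝒜 a) :
    Nonempty ((twist 𝒜 n).restrict U.ι ≅ (twist 𝒜 m).restrict U.ι) := by
  subst h
  exact ⟨mulIsoOfLE ⟨a, ha⟩ n U hU⟩

/-- `O(0)|_U ≅ O_U`. -/
noncomputable def twistZeroRestrictIso (U : (Proj 𝒜).Opens) :
    (twist 𝒜 0).restrict U.ι ≅ QC.unitMod ↑U :=
  (Scheme.Modules.restrictFunctor U.ι).mapIso (twistZeroIso 𝒜) ≪≫
    Scheme.Modules.restrictUnitIso U.ι

lemma le_basicOpen_pow (f : A) (m : ℕ) : Proj.basicOpen 𝒜 f ≤ Proj.basicOpen 𝒜 (f ^ m) := by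
  rcases Nat.eq_zero_or_pos m with rfl | hm
  · rw [pow_zero, Proj.basicOpen_one]; exact le_top
  · rw [Proj.basicOpen_pow 𝒜 f m hm]

/-- `O(nd)|_{D₊(f)} ≅ O` for `f` of degree `d`. -/
theorem nonempty_iso_unit_of_mem {d : ℕ} (f : A) (hf : f ∈ 𝒜 d) (n : ℤ) (U : (Proj 𝒜).Opens)
    (hU : U ≤ Proj.basicOpen 𝒜 f) :
    Nonempty ((twist 𝒜 (n * d)).restrict U.ι ≅ QC.unitMod ↑U) := by
  obtain ⟨m, rfl | rfl⟩ := Int.eq_nat_or_neg n
  · obtain ⟨e⟩ := nonempty_iso_of_le (f ^ m) (SetLike.pow_mem_graded m hf) 0 ((m : ℤ) * d)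
      (by simp) U (hU.trans (le_basicOpen_pow f m))
    exact ⟨e.symm ≪≫ twistZeroRestrictIso U⟩
  · obtain ⟨e⟩ := nonempty_iso_of_le (f ^ m) (SetLike.pow_mem_graded m hf) (-(m : ℤ) * d) 0
      (by simp) U (hU.trans (le_basicOpen_pow f m))
    exact ⟨e ≪≫ twistZeroRestrictIso U⟩

/-- `O(nd)|_{D₊(ab)} ≅ O` for `deg a = deg b + d`. -/
theorem nonempty_iso_unit_of_mem_mul {d i j : ℕ} (a b : A) (ha : a ∈ 𝒜 i) (hb : b ∈ 𝒜 j)
    (hij : i = j + d) (n : ℤ) (U : (Proj 𝒜).Opens) (hU : U ≤ Proj.basicOpen 𝒜 (a * b)) :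
    Nonempty ((twist 𝒜 (n * d)).restrict U.ι ≅ QC.unitMod ↑U) := by
  have hUa : U ≤ Proj.basicOpen 𝒜 a := hU.trans (by rw [Proj.basicOpen_mul]; exact inf_le_left)
  have hUb : U ≤ Proj.basicOpen 𝒜 b := hU.trans (by rw [Proj.basicOpen_mul]; exact inf_le_right)
  obtain ⟨m, rfl | rfl⟩ := Int.eq_nat_or_neg n
  · obtain ⟨e1⟩ := nonempty_iso_of_le (a ^ m) (SetLike.pow_mem_graded m ha) 0 ((m : ℤ) * i)
      (by simp) U (hUa.trans (le_basicOpen_pow a m))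
    obtain ⟨e2⟩ := nonempty_iso_of_le (b ^ m) (SetLike.pow_mem_graded m hb) ((m : ℤ) * d)
      ((m : ℤ) * i) (by subst hij; simp; ring) U (hUb.trans (le_basicOpen_pow b m))
    exact ⟨e2 ≪≫ e1.symm ≪≫ twistZeroRestrictIso U⟩
  · obtain ⟨e1⟩ := nonempty_iso_of_le (a ^ m) (SetLike.pow_mem_graded m ha) (-(m : ℤ) * d)
      ((m : ℤ) * j) (by subst hij; simp; ring) U (hUa.trans (le_basicOpen_pow a m))
    obtain ⟨e2⟩ := nonempty_iso_of_le (b ^ m) (SetLike.pow_mem_graded m hb) 0 ((m : ℤ) * j)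
      (by simp) U (hUb.trans (le_basicOpen_pow b m))
    exact ⟨e1 ≪≫ e2.symm ≪≫ twistZeroRestrictIso U⟩

end Groth.Agent.LD.TW
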