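import Groth.Agent.Lib.Lead.TW.MulX

/-! # Multiplication by an element of degree one through `O(m) ⊗ O(1) ⟶ O(m+1)`. -/

universe u
open CategoryTheory AlgebraicGeometry TopologicalSpace Opposite

namespace Groth.Agent.LD.TW

variable {R A : Type u} [CommRing R] [CommRing A] [Algebra R A] {𝒜 : ℕ → Submodule R A}
  [GradedAlgebra 𝒜]

open Twist

/-- the global section of `O(1)` given by an element of degree one. -/
noncomputable def secDeg1 (a : 𝒜 1) : Γ(twist 𝒜 1, ⊤) :=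
  (show sectN (𝒜 := 𝒜) 1 (op ⊤) from castSec (Nat.cast_one) (globalOf 𝒜 a))

lemma secDeg1_res_val (a : 𝒜 1) (U : (Proj 𝒜).Opens) (x : U) :
    (((show sectN (𝒜 := 𝒜) 1 (op U) from
      (twist 𝒜 1).presheaf.map (homOfLE (le_top : U ≤ ⊤)).op (secDeg1 a)).1 x :
        twistAt 𝒜 1 x.1) : Loc 𝒜 x.1) = ((globalOf 𝒜 a).1 ⟨x.1, trivial⟩).1 := by
  change (((castSec (𝒜 := 𝒜) (Nat.cast_one) (globalOf 𝒜 a)).1 ⟨x.1, trivial⟩ :
    twistAt 𝒜 1 x.1) : Loc 𝒜 x.1) = _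
  rw [castSec_val]

/-- `s ⊗ a ↦ a s`: the multiplication `O(m) ⊗ O(1) ⟶ O(m+1)` against the section `a` is the
multiplication by `a`. -/
lemma mulBilin_secDeg1 (a : 𝒜 1) (m : ℤ) (U : (Proj 𝒜).Opens) (s : Γ(twist 𝒜 m, U)) :
    mulBilin 𝒜 m 1 U s ((twist 𝒜 1).presheaf.map (homOfLE (le_top : U ≤ ⊤)).op (secDeg1 a)) =
      (mulX a m).app U s := by
  change (show sectN (𝒜 := 𝒜) (m+1) (op U) from _) = (show sectN (𝒜 := 𝒜) (m+1) (op U) from _)
  apply sectN_ext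
  intro x
  rw [mulX_app_val, mulBilin_apply]
  change ((show sectN (𝒜 := 𝒜) m (op U) from s).1 x).1 * _ = _
  rw [secDeg1_res_val, mul_comm]

end Groth.Agent.LD.TW
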