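import Groth.Prelude.Def_Twist2

/-! # Twisting sheaves: pointwise algebra in the localization at a homogeneous prime. -/

universe u
open CategoryTheory AlgebraicGeometry TopologicalSpace Opposite

namespace Groth.Agent.LD.TW

variable {R A : Type u} [CommRing R] [CommRing A] [Algebra R A] (𝒜 : ℕ → Submodule R A)
  [GradedAlgebra 𝒜]

open Twist

/-- the basic fractions of degree `n` at `x`. -/
def fracSet (n : ℤ) (x : ProjectiveSpectrum 𝒜) : Set (Loc 𝒜 x) :=
  {q | ∃ (i j : ℕ) (a : 𝒜 i) (s : 𝒜 j) (hs : s.1 ∉ x.asHomogeneousIdeal),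
    (i : ℤ) = j + n ∧ q = Localization.mk a.1 ⟨s.1, hs⟩}

lemma twistAt_eq_span (n : ℤ) (x : ProjectiveSpectrum 𝒜) :
    twistAt 𝒜 n x = Submodule.span (A0 𝒜 x) (fracSet 𝒜 n x) := rfl

variable {𝒜}

lemma mk_mem_twistAt {n : ℤ} {x : ProjectiveSpectrum 𝒜} {i j : ℕ} (a : 𝒜 i) (s : 𝒜 j)
    (hs : s.1 ∉ x.asHomogeneousIdeal) (h : (i : ℤ) = j + n) :
    Localization.mk a.1 ⟨s.1, hs⟩ ∈ twistAt 𝒜 n x :=
  Submodule.subset_span ⟨i, j, a, s, hs, h, rfl⟩

/-- the product of fractions of degrees `k` and `n` has degree `k + n`. -/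
lemma mul_mem_twistAt {k n : ℤ} {x : ProjectiveSpectrum 𝒜} {u q : Loc 𝒜 x}
    (hu : u ∈ twistAt 𝒜 k x) (hq : q ∈ twistAt 𝒜 n x) : u * q ∈ twistAt 𝒜 (k + n) x := by
  induction hu using Submodule.span_induction with
  | mem u hu =>
    obtain ⟨i, j, a, s, hs, hij, rfl⟩ := hu
    induction hq using Submodule.span_induction with
    | mem q hq =>
      obtain ⟨i', j', b, t, ht, hij', rfl⟩ := hq
      rw [Localization.mk_mul]
      have hst : s.1 * t.1 ∉ x.asHomogeneousIdeal := fun h =>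
        (x.isPrime.mem_or_mem h).elim hs ht
      exact mk_mem_twistAt (n := k + n) (⟨a.1 * b.1, SetLike.mul_mem_graded a.2 b.2⟩ : 𝒜 (i + i'))
        (⟨s.1 * t.1, SetLike.mul_mem_graded s.2 t.2⟩ : 𝒜 (j + j')) hst (by push_cast; omega)
    | zero => rw [mul_zero]; exact Submodule.zero_mem _
    | add p q _ _ hp hq => rw [mul_add]; exact Submodule.add_mem _ hp hq
    | smul c q _ hq =>
      rw [Algebra.smul_def, ← mul_assoc, mul_comm _ (algebraMap _ _ c), mul_assoc,
        ← Algebra.smul_def]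
      exact Submodule.smul_mem _ c hq
  | zero => rw [zero_mul]; exact Submodule.zero_mem _
  | add p q _ _ hp hq => rw [add_mul]; exact Submodule.add_mem _ hp hq
  | smul c u _ hu =>
    rw [Algebra.smul_def, mul_assoc, ← Algebra.smul_def]
    exact Submodule.smul_mem _ c hu

end Groth.Agent.LD.TW
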