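import Groth.Agent.Lib.Lead.TW.Triv
import Groth.Agent.Lib.Lead.QC.TensorDescAll

/-! # Twisting sheaves: pointwise invertible sections are bases. -/

universe u
open CategoryTheory AlgebraicGeometry TopologicalSpace Opposite

namespace Groth.Agent.LD.TW

variable {R A : Type u} [CommRing R] [CommRing A] [Algebra R A] {𝒜 : ℕ → Submodule R A}
  [GradedAlgebra 𝒜]

open Twist

/-- restriction of sections of `O(k)`. -/
def resSec {k : ℤ} {W V : Opens (ProjectiveSpectrum.top 𝒜)} (h : V ≤ W)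
    (u : sectN (𝒜 := 𝒜) k (op W)) : sectN (𝒜 := 𝒜) k (op V) :=
  resN k (homOfLE h).op u

lemma resSec_val {k : ℤ} {W V : Opens (ProjectiveSpectrum.top 𝒜)} (h : V ≤ W)
    (u : sectN (𝒜 := 𝒜) k (op W)) (x : V) :
    ((resSec h u).1 x).1 = (u.1 ⟨x.1, h x.2⟩).1 := rfl

lemma mulSec_add_left {k n : ℤ} {W V : Opens (ProjectiveSpectrum.top 𝒜)} (hV : V ≤ W)
    (u u' : sectN (𝒜 := 𝒜) k (op W)) (s : sectN (𝒜 := 𝒜) n (op V)) :
    mulSec hV (u + u') s = mulSec hV u s + mulSec hV u' s := by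
  apply sectN_ext
  intro x
  change ((u.1 _).1 + (u'.1 _).1) * (s.1 x).1 = (u.1 _).1 * (s.1 x).1 + (u'.1 _).1 * (s.1 x).1
  rw [add_mul]

lemma mulSec_smul_left {k n : ℤ} {V : Opens (ProjectiveSpectrum.top 𝒜)}
    (r : O (𝒜 := 𝒜) (op V)) (u : sectN (𝒜 := 𝒜) k (op V)) (s : sectN (𝒜 := 𝒜) n (op V)) :
    mulSec le_rfl (r • u) s = r • mulSec le_rfl u s := by
  apply sectN_ext
  intro x
  change ((r.1 x • u.1 x : twistAt 𝒜 k x.1) : Loc 𝒜 x.1) * (s.1 x).1 =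
    ((r.1 x • (mulSec le_rfl u s).1 x : twistAt 𝒜 (k + n) x.1) : Loc 𝒜 x.1)
  rw [coe_smul_val, coe_smul_val, mulSec_apply]
  ring

/-- a section of `O(k)` which is pointwise invertible, with inverse a section of `O(-k)`. -/
def IsUnitSec {k : ℤ} {V : Opens (ProjectiveSpectrum.top 𝒜)} (u : sectN (𝒜 := 𝒜) k (op V)) : Prop :=
  ∃ v : sectN (𝒜 := 𝒜) (-k) (op V), ∀ x : V, (u.1 x).1 * (v.1 x).1 = 1

lemma IsUnitSec.res {k : ℤ} {W V : Opens (ProjectiveSpectrum.top 𝒜)} {u : sectN (𝒜 := 𝒜) k (op W)}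
    (hu : IsUnitSec u) (h : V ≤ W) : IsUnitSec (resSec h u) := by
  obtain ⟨v, hv⟩ := hu
  exact ⟨resSec h v, fun x => hv ⟨x.1, h x.2⟩⟩

lemma IsUnitSec.cast {k k' : ℤ} (h : k = k') {V : Opens (ProjectiveSpectrum.top 𝒜)}
    {u : sectN (𝒜 := 𝒜) k (op V)} (hu : IsUnitSec u) : IsUnitSec (castSec h u) := by
  subst h; exact hu

lemma IsUnitSec.mul {k k' : ℤ} {V : Opens (ProjectiveSpectrum.top 𝒜)}
    {u : sectN (𝒜 := 𝒜) k (op V)} {u' : sectN (𝒜 := 𝒜) k' (op V)}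
    (hu : IsUnitSec u) (hu' : IsUnitSec u') : IsUnitSec (mulSec le_rfl u u') := by
  obtain ⟨v, hv⟩ := hu
  obtain ⟨v', hv'⟩ := hu'
  refine ⟨castSec (by ring) (mulSec le_rfl v v'), fun x => ?_⟩
  rw [castSec_val, mulSec_apply, mulSec_apply]
  calc (u.1 ⟨x.1, _⟩).1 * (u'.1 x).1 * ((v.1 ⟨x.1, _⟩).1 * (v'.1 x).1)
      = ((u.1 x).1 * (v.1 x).1) * ((u'.1 x).1 * (v'.1 x).1) := by ring
    _ = 1 := by rw [hv x, hv' x, one_mul]

lemma IsUnitSec.inv {k : ℤ} {V : Opens (ProjectiveSpectrum.top 𝒜)}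
    {u : sectN (𝒜 := 𝒜) k (op V)} {v : sectN (𝒜 := 𝒜) (-k) (op V)}
    (h : ∀ x : V, (u.1 x).1 * (v.1 x).1 = 1) : IsUnitSec v :=
  ⟨castSec (neg_neg k).symm u, fun x => by rw [castSec_val, mul_comm]; exact h x⟩

/-- `a / 1` is pointwise invertible on `D₊(a)`. -/
lemma isUnitSec_globalOf {i : ℕ} (a : 𝒜 i) {V : Opens (ProjectiveSpectrum.top 𝒜)}
    (hV : V ≤ ProjectiveSpectrum.basicOpen 𝒜 (a : A)) :
    IsUnitSec (resSec (le_top : V ≤ ⊤) (globalOf 𝒜 a)) :=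
  ⟨resSec hV (invSec a), fun x => mk_mul_mk_inv (x := x.1) a.1 (hV x.2)
    (fun h => x.1.isPrime.ne_top ((Ideal.eq_top_iff_one _).mpr h))⟩

/-- over `D₊(f)`, `f` of degree `d`, there are pointwise invertible sections of `O(kd)`. -/
theorem exists_isUnitSec {d : ℕ} (f : A) (hf : f ∈ 𝒜 d) (k : ℤ)
    {V : Opens (ProjectiveSpectrum.top 𝒜)} (hV : V ≤ ProjectiveSpectrum.basicOpen 𝒜 f) :
    ∃ u : sectN (𝒜 := 𝒜) (k * d) (op V), IsUnitSec u := by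
  have hV' : ∀ m : ℕ, V ≤ ProjectiveSpectrum.basicOpen 𝒜 (f ^ m) := by
    intro m
    rcases Nat.eq_zero_or_pos m with rfl | hm
    · rw [pow_zero, ProjectiveSpectrum.basicOpen_one]; exact le_top
    · rw [ProjectiveSpectrum.basicOpen_pow 𝒜 f m hm]; exact hV
  obtain ⟨m, rfl | rfl⟩ := Int.eq_nat_or_neg k
  · have h1 := isUnitSec_globalOf (⟨f ^ m, SetLike.pow_mem_graded m hf⟩ : 𝒜 (m • d)) (hV' m)
    exact ⟨_, h1.cast (by simp)⟩
  · obtain ⟨v, hv⟩ := isUnitSec_globalOf (⟨f ^ m, SetLike.pow_mem_graded m hf⟩ : 𝒜 (m • d)) (hV' m)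
    have h2 := IsUnitSec.inv hv
    exact ⟨_, h2.cast (by simp)⟩

end Groth.Agent.LD.TW
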