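import Groth.Agent.Lib.Lead.TW.Zero

/-! # Twisting sheaves: the non-vanishing locus of `f / 1`, pointwise. -/

universe u
open CategoryTheory AlgebraicGeometry TopologicalSpace Opposite

namespace Groth.Agent.LD.TW

variable {R A : Type u} [CommRing R] [CommRing A] [Algebra R A] {𝒜 : ℕ → Submodule R A}
  [GradedAlgebra 𝒜]

open Twist

lemma one_notMem (p : ProjectiveSpectrum 𝒜) : (1 : A) ∉ p.asHomogeneousIdeal :=
  fun h => p.isPrime.ne_top ((Ideal.eq_top_iff_one _).mpr h)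

lemma isUnit_mk (p : ProjectiveSpectrum 𝒜) (a b : A) (ha : a ∉ p.asHomogeneousIdeal)
    (hb : b ∉ p.asHomogeneousIdeal) :
    IsUnit (Localization.mk a ⟨b, hb⟩ : Loc 𝒜 p) := by
  rw [Localization.mk_eq_mk',
    IsLocalization.AtPrime.isUnit_mk'_iff (Loc 𝒜 p) p.asHomogeneousIdeal.toIdeal]
  exact ha

lemma notMem_of_isUnit_mk (p : ProjectiveSpectrum 𝒜) (a b : A)
    (hb : b ∉ p.asHomogeneousIdeal) (h : IsUnit (Localization.mk a ⟨b, hb⟩ : Loc 𝒜 p)) :
    a ∉ p.asHomogeneousIdeal := by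
  rw [Localization.mk_eq_mk',
    IsLocalization.AtPrime.isUnit_mk'_iff (Loc 𝒜 p) p.asHomogeneousIdeal.toIdeal] at h
  exact h

/-- `f / 1` generates the degree `k` fractions at `p` iff `f ∉ p`, provided some degree `k`
fraction at `p` is invertible. -/
theorem mem_basicOpen_iff_span_eq_top {k : ℕ} (f : 𝒜 k) (p : ProjectiveSpectrum 𝒜)
    (hunit : ∃ q ∈ twistAt 𝒜 (k : ℤ) p, IsUnit q) :
    p ∈ ProjectiveSpectrum.basicOpen 𝒜 (f : A) ↔
      Submodule.span (A0 𝒜 p) {(globalOf 𝒜 f).1 ⟨p, trivial⟩} = ⊤ := by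
  constructor
  · intro hf
    rw [eq_top_iff]
    rintro ⟨q, hq⟩ -
    rw [Submodule.mem_span_singleton]
    have h1 : (Localization.mk 1 ⟨f.1, hf⟩ : Loc 𝒜 p) ∈ twistAt 𝒜 (-(k : ℤ)) p :=
      mk_mem_twistAt (⟨1, SetLike.GradedOne.one_mem⟩ : 𝒜 0) f hf (by simp)
    have h2 := mul_mem_twistAt hq h1
    rw [add_neg_cancel] at h2
    obtain ⟨c, hc⟩ := exists_val_eq_of_mem_twistAt_zero h2
    refine ⟨c, Subtype.ext ?_⟩
    rw [coe_smul_val, hc]
    change q * Localization.mk 1 ⟨f.1, hf⟩ * Localization.mk f.1 ⟨1, one_notMem p⟩ = q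
    rw [mul_assoc, mul_comm (Localization.mk 1 _), mk_mul_mk_inv, mul_one]
  · intro h
    obtain ⟨q, hq, hqu⟩ := hunit
    have h1 : (⟨q, hq⟩ : twistAt 𝒜 (k : ℤ) p) ∈
        Submodule.span (A0 𝒜 p) {(globalOf 𝒜 f).1 ⟨p, trivial⟩} := by rw [h]; trivial
    rw [Submodule.mem_span_singleton] at h1
    obtain ⟨c, hc⟩ := h1
    have h2 := congrArg (fun t : twistAt 𝒜 (k : ℤ) p => (t : Loc 𝒜 p)) hc
    simp only [coe_smul_val] at h2
    change c.val * Localization.mk f.1 ⟨1, one_notMem p⟩ = q at h2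
    rw [← h2] at hqu
    exact notMem_of_isUnit_mk p f.1 1 (one_notMem p) (isUnit_of_mul_isUnit_right hqu)

end Groth.Agent.LD.TW
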